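import Groth.Agent.ResProp.EF.K624.Nodes
import Groth.Agent.ResProp.EF.K930.PD
import Mathlib.RingTheory.Localization.FractionRing
import Mathlib.Algebra.CharP.Algebra

/-!
# J2: existence of divided power algebras `HasPD`
-/

set_option autoImplicit false

universe u

open Nat

namespace Groth.Agent.ResProp.EF.K687

open Groth.Agent.ResProp.EF.K930

section nat

variable (σ : Type*) [Fintype σ] [DecidableEq σ] (L : Type*) [CommRing L] (K : Type*) [Field K] [CharZero K]
  [Algebra L K]

/-- The divided monomials of positive degree are in `natIdeal`. -/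
theorem xd_mem_natIdeal {a : σ →₀ ℕ} (ha : a ≠ 0) : xd σ L K a ∈ natIdeal (PD σ L K) := by
  classical
  obtain ⟨i, hi⟩ : ∃ i, a i ≠ 0 := by
    by_contra h
    push Not at h
    exact ha (Finsupp.ext h)
  have h1 : xd σ L K (Finsupp.single i (a i)) ∈ natIdeal (PD σ L K) := by
    refine dpow_mem_natIdeal (tf_PD σ L K) (gen_mem_natIdeal σ L K i) hi ?_
    have h := fac_mul_xd σ L K (Finsupp.single i (a i))
    rw [fac_single] at h
    rw [h, Finset.prod_eq_single i]
    · simp
    · intro j _ hj; simp [hj.symm]
    · simp
  have h2 : xd σ L K a = xd σ L K (Finsupp.single i (a i)) * xd σ L K (a.erase i) := by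
    have hm : mch (Finsupp.single i (a i)) (a.erase i) = 1 := by
      unfold mch
      refine Finset.prod_eq_one fun j _ => ?_
      by_cases hj : j = i
      · subst hj; simp
      · simp [Finsupp.single_eq_of_ne hj]
    rw [xd_mul, hm, Nat.cast_one, one_mul, Finsupp.single_add_erase]
  rw [h2]
  exact Ideal.mul_mem_right _ _ h1

variable [FaithfulSMul L K]

/-- An element killed by the augmentation is in `natIdeal`. -/
theorem mem_natIdeal_of_lift_zero (hL : TF L) {f : PD σ L K}
    (hf : lift σ L K hL (fun _ => 0) f = 0) : f ∈ natIdeal (PD σ L K) := by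
  classical
  have key : ∀ a : σ →₀ ℕ, a ≠ 0 → lift σ L K hL (fun _ => 0) (xd σ L K a) = 0 := by
    intro a ha
    obtain ⟨i, hi⟩ : ∃ i, a i ≠ 0 := by
      by_contra h
      push Not at h
      exact ha (Finsupp.ext h)
    rw [lift_xd, dpm]
    refine Finset.prod_eq_zero (Finset.mem_univ i) ?_
    refine dp_unique hL _ _ ?_
    rw [mul_zero]
    exact (zero_pow hi).symm
  have hall : ∀ f : PD σ L K,
      f - algebraMap L (PD σ L K) (lift σ L K hL (fun _ => 0) f) ∈ natIdeal (PD σ L K) := by
    intro f
    have hspan : f ∈ Submodule.span L (Set.range (xd σ L K)) := xd_span σ L K (Submodule.mem_top)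
    induction hspan using Submodule.span_induction with
    | mem x hx =>
      obtain ⟨a, rfl⟩ := hx
      by_cases ha : a = 0
      · subst ha
        rw [xd_zero, map_one, map_one, sub_self]
        exact zero_mem _
      · rw [key a ha, map_zero, sub_zero]
        exact xd_mem_natIdeal σ L K ha
    | zero => simp
    | add x y _ _ hx hy =>
      rw [map_add, map_add, add_sub_add_comm]
      exact add_mem hx hy
    | smul l x _ hx =>
      rw [map_smul, Algebra.smul_def, smul_eq_mul, map_mul, ← mul_sub]
      exact Ideal.mul_mem_left _ _ hx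
  have := hall f
  rwa [hf, map_zero, sub_zero] at this

end nat

theorem tf_of_tf {R : Type u} [CommRing R] (h : K624.TF R) : TF R := by
  intro n b hn hb
  refine h n hn ?_
  change n • b = n • 0
  rw [nsmul_eq_mul, hb, smul_zero]

theorem tf_dom {k : Type*} [CommRing k] [IsDomain k] [CharZero k] : TF k := by
  intro n b hn hb
  rcases _root_.mul_eq_zero.1 hb with h | h
  · exact absurd h (by exact_mod_cast hn)
  · exact h

/-- `PDAlg` for a domain of characteristic zero. -/
theorem hasPD_of_domain (k : Type u) [CommRing k] [IsDomain k] [CharZero k] : K624.HasPD k := by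
  intro n
  classical
  have : CharZero (FractionRing k) := charZero_of_injective_algebraMap (IsFractionRing.injective k (FractionRing k))
  refine ⟨{ P := PD (Fin n) k (FractionRing k)
            x := gen (Fin n) k (FractionRing k)
            nx := fun i => gen_mem_natIdeal (Fin n) k (FractionRing k) i
            aug := lift (Fin n) k (FractionRing k) (tf_dom (k := k)) (fun _ => 0)
            aug_x := fun i => lift_gen (Fin n) k (FractionRing k) _ _ i
            ker_aug := fun a ha => mem_natIdeal_of_lift_zero (Fin n) k (FractionRing k) _ ha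
            univ := ?_ }⟩
  intro R _ _ hR y hy
  have hR' := tf_of_tf hR
  refine ⟨lift (Fin n) k (FractionRing k) hR' (fun i => ⟨y i, hy i⟩), ?_, ?_⟩
  · intro i
    exact lift_gen (Fin n) k (FractionRing k) hR' _ i
  · intro g hg
    refine hom_ext (Fin n) k (FractionRing k) hR' fun i => ?_
    rw [hg i, lift_gen]

/-- J2. -/
theorem hasPD (p : ℕ) (k : Type u) [CommRing k] [h : Grp.IsLb p k] : K624.HasPD k := by
  have := h.dom
  have := h.char0
  exact hasPD_of_domain k

end Groth.Agent.ResProp.EF.K687
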